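import Cfsg.Agent.Lib.Helper6.TCD.Y422K.SCP0
import Cfsg.Agent.Lib.Helper6.TCD.Y422K.SCP1
import Cfsg.Agent.Lib.Helper6.TCD.Y422K.SCP2
import Cfsg.Agent.Lib.Helper6.TCD.Y422K.SCP3
import Cfsg.Agent.Lib.Helper6.TCD.Y422K.SCP4
import Cfsg.Agent.Lib.Helper6.TCD.Y422K.SCP5
import Cfsg.Agent.Lib.Helper6.TCD.Y422K.SCP6
set_option autoImplicit false
namespace Cfsg.Agent.Lib.Helper6.TCD.Y422K
noncomputable def SCT0 (i : Nat) : Nat := Bool.rec (SCP0N62 i) (SCP1N62 i) (Nat.ble 65536 i)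
noncomputable def SCT1 (i : Nat) : Nat := Bool.rec (SCP2N62 i) (SCP3N62 i) (Nat.ble 196608 i)
noncomputable def SCT2 (i : Nat) : Nat := Bool.rec (SCT0 i) (SCT1 i) (Nat.ble 131072 i)
noncomputable def SCT3 (i : Nat) : Nat := Bool.rec (SCP4N62 i) (SCP5N62 i) (Nat.ble 327680 i)
noncomputable def SCT4 (i : Nat) : Nat := Bool.rec (SCT3 i) (SCP6N22 i) (Nat.ble 393216 i)
noncomputable def SC (i : Nat) : Nat := Bool.rec (SCT2 i) (SCT4 i) (Nat.ble 262144 i)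
end Cfsg.Agent.Lib.Helper6.TCD.Y422K
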