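import Cfsg.Agent.Lib.Helper6.TCD.Y422K.SH
import Cfsg.Agent.Lib.Helper6.TCD.Y422K.SC
import Cfsg.Agent.Lib.Helper6.TCD.Y422K.NH
import Cfsg.Agent.Lib.Helper6.TCD.Y422K.NC
import Cfsg.Agent.Lib.Helper6.TCD.Y422K.WD
import Cfsg.Agent.Lib.Helper6.TCD.Y422K.WI
set_option autoImplicit false
namespace Cfsg.Agent.Lib.Helper6.TCD.Y422K
def n : Nat := 46392
def ncol : Nat := 9
def nrw : Nat := 337
def nw : Nat := 345
def tmax : Nat := 417415
def INV : Nat := 36344967696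
def N : Nat := 28431
end Cfsg.Agent.Lib.Helper6.TCD.Y422K
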