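import Cfsg.Agent.Lib.Helper6.TC1
import Cfsg.Agent.Lib.Helper6.TCD.Y422K.Par
set_option autoImplicit false
set_option maxRecDepth 1000000
set_option Elab.async false
open Cfsg.Agent.Lib.Helper6.TC
namespace Cfsg.Agent.Lib.Helper6.TCD.Y422K
theorem chkN7 : allR (chkName SH NH NC WD n ncol nrw nw tmax) 42000 4392 = true := by decide +kernel
theorem chkL7 : allR (chkLive SH NH n ncol tmax) 42000 4392 = true := by decide +kernel
end Cfsg.Agent.Lib.Helper6.TCD.Y422K
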