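import Cfsg.Agent.Lib.Helper6.TCD.Y422K.CS0
import Cfsg.Agent.Lib.Helper6.TCD.Y422K.CS1
import Cfsg.Agent.Lib.Helper6.TCD.Y422K.CS2
import Cfsg.Agent.Lib.Helper6.TCD.Y422K.CS3
import Cfsg.Agent.Lib.Helper6.TCD.Y422K.CS4
import Cfsg.Agent.Lib.Helper6.TCD.Y422K.CS5
import Cfsg.Agent.Lib.Helper6.TCD.Y422K.CS6
import Cfsg.Agent.Lib.Helper6.TCD.Y422K.CS7
import Cfsg.Agent.Lib.Helper6.TCD.Y422K.CS8
import Cfsg.Agent.Lib.Helper6.TCD.Y422K.CS9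
import Cfsg.Agent.Lib.Helper6.TCD.Y422K.CS10
import Cfsg.Agent.Lib.Helper6.TCD.Y422K.CS11
import Cfsg.Agent.Lib.Helper6.TCD.Y422K.CS12
import Cfsg.Agent.Lib.Helper6.TCD.Y422K.CS13
import Cfsg.Agent.Lib.Helper6.TCD.Y422K.CS14
import Cfsg.Agent.Lib.Helper6.TCD.Y422K.CS15
import Cfsg.Agent.Lib.Helper6.TCD.Y422K.CS16
import Cfsg.Agent.Lib.Helper6.TCD.Y422K.CS17
import Cfsg.Agent.Lib.Helper6.TCD.Y422K.CS18
import Cfsg.Agent.Lib.Helper6.TCD.Y422K.CS19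
import Cfsg.Agent.Lib.Helper6.TCD.Y422K.CS20
import Cfsg.Agent.Lib.Helper6.TCD.Y422K.CS21
import Cfsg.Agent.Lib.Helper6.TCD.Y422K.CS22
import Cfsg.Agent.Lib.Helper6.TCD.Y422K.CS23
import Cfsg.Agent.Lib.Helper6.TCD.Y422K.CS24
import Cfsg.Agent.Lib.Helper6.TCD.Y422K.CS25
import Cfsg.Agent.Lib.Helper6.TCD.Y422K.CS26
import Cfsg.Agent.Lib.Helper6.TCD.Y422K.CS27
import Cfsg.Agent.Lib.Helper6.TCD.Y422K.CS28
import Cfsg.Agent.Lib.Helper6.TCD.Y422K.CS29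
import Cfsg.Agent.Lib.Helper6.TCD.Y422K.CS30
import Cfsg.Agent.Lib.Helper6.TCD.Y422K.CS31
import Cfsg.Agent.Lib.Helper6.TCD.Y422K.CS32
import Cfsg.Agent.Lib.Helper6.TCD.Y422K.CS33
import Cfsg.Agent.Lib.Helper6.TCD.Y422K.CS34
import Cfsg.Agent.Lib.Helper6.TCD.Y422K.CS35
import Cfsg.Agent.Lib.Helper6.TCD.Y422K.CS36
import Cfsg.Agent.Lib.Helper6.TCD.Y422K.CS37
import Cfsg.Agent.Lib.Helper6.TCD.Y422K.CS38
import Cfsg.Agent.Lib.Helper6.TCD.Y422K.CS39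
import Cfsg.Agent.Lib.Helper6.TCD.Y422K.CS40
import Cfsg.Agent.Lib.Helper6.TCD.Y422K.CS41
import Cfsg.Agent.Lib.Helper6.TCD.Y422K.CS42
import Cfsg.Agent.Lib.Helper6.TCD.Y422K.CS43
import Cfsg.Agent.Lib.Helper6.TCD.Y422K.CS44
import Cfsg.Agent.Lib.Helper6.TCD.Y422K.CS45
import Cfsg.Agent.Lib.Helper6.TCD.Y422K.CS46
import Cfsg.Agent.Lib.Helper6.TCD.Y422K.CS47
import Cfsg.Agent.Lib.Helper6.TCD.Y422K.CS48
import Cfsg.Agent.Lib.Helper6.TCD.Y422K.CS49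
import Cfsg.Agent.Lib.Helper6.TCD.Y422K.CS50
import Cfsg.Agent.Lib.Helper6.TCD.Y422K.CS51
import Cfsg.Agent.Lib.Helper6.TCD.Y422K.CS52
import Cfsg.Agent.Lib.Helper6.TCD.Y422K.CN0
import Cfsg.Agent.Lib.Helper6.TCD.Y422K.CN1
import Cfsg.Agent.Lib.Helper6.TCD.Y422K.CN2
import Cfsg.Agent.Lib.Helper6.TCD.Y422K.CN3
import Cfsg.Agent.Lib.Helper6.TCD.Y422K.CN4
import Cfsg.Agent.Lib.Helper6.TCD.Y422K.CN5
import Cfsg.Agent.Lib.Helper6.TCD.Y422K.CN6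
import Cfsg.Agent.Lib.Helper6.TCD.Y422K.CN7
import Cfsg.Agent.Lib.Helper6.TCD.Y422K.CC
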